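import Groth.Agent.AlgSpLib.EtaleLift
import Groth.Agent.AlgSpLib.Bootstrap
import Groth.Agent.AlgSpLib.ThickSpace
import Groth.Agent.AlgSpLib.ThickSmoothLift
import Groth.Agent.MonoPtLib.FamilyDesc
import Groth.Agent.AlgSpLib.MorPack

/-!
# A criterion for colimits in algebraic spaces through etale base change
-/

set_option autoImplicit false
set_option backward.isDefEq.respectTransparency false
set_option backward.isDefEq.respectTransparency.types false

universe u v w

open CategoryTheory CategoryTheory.Limits AlgebraicGeometry AlgSp AlgSpLib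

namespace EtColimLib

variable {S : Scheme.{u}} {I : Type v} [Category.{w} I] {B C : Sp S} {D : I ⥤ Sp S}

/-- The system of base changes of a morphism to `C`. -/
structure Sys (D : I ⥤ Sp S) (U : Sp S) where
  obj : I ⥤ Sp S
  alg : ∀ i, IsAlgSpace (obj.obj i)
  α : obj ⟶ D
  ι : ∀ i, obj.obj i ⟶ U
  nat : ∀ {i j : I} (g : i ⟶ j), obj.map g ≫ ι j = ι i

/-- The system is the system of base changes of `u`. -/
def Cart (c : ∀ i, D.obj i ⟶ C) {U : Sp S} (u : U ⟶ C) (s : Sys D U) : Prop :=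
  ∀ i, IsPullback (s.ι i) (s.α.app i) u (c i)

/-- The hypotheses of the criterion. -/
structure Data (γ : C ⟶ B) (c : ∀ i, D.obj i ⟶ C) : Prop where
  algB : IsAlgSpace B
  algC : IsAlgSpace C
  algD : ∀ i, IsAlgSpace (D.obj i)
  nat : ∀ {i j : I} (g : i ⟶ j), D.map g ≫ c j = c i
  effective : ∀ (D' : I ⥤ Sp S) (α : D' ⟶ D), (∀ i, IsAlgSpace (D'.obj i)) →
    (∀ ⦃i j : I⦄ (g : i ⟶ j), IsPullback (D'.map g) (α.app i) (α.app j) (D.map g)) →
    (∀ i, IsEtaleMor (α.app i)) →
      ∃ (U : Sp S) (a : U ⟶ C) (ι : ∀ i, D'.obj i ⟶ U), IsAlgSpace U ∧ IsEtaleMor a ∧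
        (∀ ⦃i j : I⦄ (g : i ⟶ j), D'.map g ≫ ι j = ι i) ∧ ∀ i, IsPullback (ι i) (α.app i) a (c i)
  lift : ∀ {U U' : Sp S}, IsAlgSpace U → IsAlgSpace U' → ∀ (u : U ⟶ C) (u' : U' ⟶ C), IsEtaleMor u →
    IsEtaleMor u' → ∀ (s : Sys D U), Cart c u s → ∀ (k : ∀ i, s.obj.obj i ⟶ U'),
      (∀ ⦃i j : I⦄ (g : i ⟶ j), s.obj.map g ≫ k j = k i) → (∀ i, k i ≫ u' = s.ι i ≫ u) →
        ∃! m : U ⟶ U', m ≫ u' = u ∧ ∀ i, s.ι i ≫ m = k i
  affine : ∀ (B' Zs Us : Over S) (b : (yon S).obj B' ⟶ B) (z : Zs ⟶ B') (XB : Sp S), IsAlgSpace XB →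
    ∀ (x₁ : XB ⟶ C) (x₂ : XB ⟶ (yon S).obj B') (uu : (yon S).obj Us ⟶ XB), IsAffine B'.left →
      IsAffine Zs.left → IsAffine Us.left → RepWith @Etale b → IsPullback x₁ x₂ γ b → RepWith @Etale uu →
      ∀ (s : Sys D ((yon S).obj Us)), Cart c (uu ≫ x₁) s → ∀ (φ : ∀ i, s.obj.obj i ⟶ (yon S).obj Zs),
        (∀ ⦃i j : I⦄ (g : i ⟶ j), s.obj.map g ≫ φ j = φ i) →
        (∀ i, φ i ≫ (yon S).map z = s.ι i ≫ uu ≫ x₂) →
          ∃! fz : Us ⟶ Zs, (yon S).map fz ≫ (yon S).map z = uu ≫ x₂ ∧ ∀ i, s.ι i ≫ (yon S).map fz = φ i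

variable {γ : C ⟶ B} {c : ∀ i, D.obj i ⟶ C}

/-- The chosen system of pullbacks. -/
noncomputable def stdSys (H : Data γ c) {U : Sp S} (hU : IsAlgSpace U) (u : U ⟶ C) : Sys D U where
  obj :=
    { obj := fun i => pullback u (c i)
      map := fun {i j} g => pullback.lift (pullback.fst _ _) (pullback.snd _ _ ≫ D.map g) (by
        rw [Category.assoc, H.nat g, pullback.condition])
      map_id := fun i => by apply pullback.hom_ext <;> simp
      map_comp := fun g g' => by apply pullback.hom_ext <;> simp }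
  alg i := isAlgSpace_pullback hU (H.algD i) H.algC u (c i)
  α :=
    { app := fun i => pullback.snd u (c i)
      naturality := fun i j g => by simp }
  ι i := pullback.fst u (c i)
  nat g := pullback.lift_fst _ _ _

theorem cart_stdSys (H : Data γ c) {U : Sp S} (hU : IsAlgSpace U) (u : U ⟶ C) : Cart c u (stdSys H hU u) :=
  fun i => IsPullback.of_hasPullback u (c i)

theorem ext_of_etale_cover {X G : Sp S} (hX : IsAlgSpace X) {x y : X ⟶ G}
    (h : ∀ p : Points X, ∃ (N : Sp S) (q : N ⟶ X), IsAlgSpace N ∧ IsEtaleMor q ∧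
      p ∈ Set.range (Points.map q) ∧ q ≫ x = q ≫ y) : x = y := by
  obtain ⟨W, a, ha, has⟩ := hX.atlas
  choose N q hN hq hp hxy using fun w : W.left => h (Points.ofPt a w)
  choose n hn using hp
  choose A str e v he hev using fun w : W.left => exists_affine_etale_nhd (hN w) (n w)
  have hsur : ∀ p : Points X, ∃ w : W.left, p ∈ Set.range (Points.ofPt (e w ≫ q w)) := fun p => by
    obtain ⟨y', rfl⟩ := map_surjective_of_repWith has p
    obtain ⟨w, rfl⟩ := (Points.schemeEquiv W).surjective y'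
    refine ⟨w, v w, ?_⟩
    rw [← Points.map_ofPt, hev, hn, Points.ofPt_eq_map_ofScheme]
    rfl
  obtain ⟨g, -, hu⟩ := MonoPtLib.exists_unique_desc_of_family (fun w => e w ≫ q w) (fun w => hq w _ (he w))
    hsur (fun w => e w ≫ q w ≫ x) fun w w' T g g' e' => by
      simpa only [Category.assoc] using congrArg (· ≫ x) e'
  exact (hu x fun w => Category.assoc _ _ _).trans (hu y fun w => by rw [Category.assoc, hxy]).symm

theorem exists_desc_of_etale_cover {X G : Sp S} {κ : Type u} (hX : IsAlgSpace X) (N : κ → Sp S)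
    (q : ∀ k, N k ⟶ X) (hN : ∀ k, IsAlgSpace (N k)) (hq : ∀ k, IsEtaleMor (q k))
    (hs : ∀ p : Points X, ∃ k, p ∈ Set.range (Points.map (q k))) (x : ∀ k, N k ⟶ G)
    (hx : ∀ k l, pullback.fst (q k) (q l) ≫ x k = pullback.snd (q k) (q l) ≫ x l) :
    ∃ y : X ⟶ G, ∀ k, q k ≫ y = x k := by
  choose W e he hes using fun k => (hN k).atlas
  obtain ⟨y, hy, -⟩ := MonoPtLib.exists_unique_desc_of_family (fun k => e k ≫ q k) (fun k => hq k _ (he k))
    (fun p => by
      obtain ⟨k, n, rfl⟩ := hs p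
      obtain ⟨y', rfl⟩ := map_surjective_of_repWith (hes k) n
      obtain ⟨w, rfl⟩ := (Points.schemeEquiv (W k)).surjective y'
      refine ⟨k, w, ?_⟩
      rw [Points.ofPt_eq_map_ofScheme, Points.map_comp]
      rfl)
    (fun k => e k ≫ x k) fun k l T g g' w => by
      have := congrArg (pullback.lift ((yon S).map g ≫ e k) ((yon S).map g' ≫ e l)
        (by simpa only [Category.assoc] using w) ≫ ·) (hx k l)
      simp only [pullback.lift_fst_assoc, pullback.lift_snd_assoc, Category.assoc] at this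
      exact this
  exact ⟨y, fun k => hom_ext_of_atlas (he k) (hes k) ((Category.assoc _ _ _).symm.trans (hy k))⟩

section Affine

variable (H : Data γ c) {U : Sp S} (hU : IsAlgSpace U) (u : U ⟶ C) (hu : IsEtaleMor u) (s : Sys D U) (hs : Cart c u s)
  {B' Zs : Over S} (b : (yon S).obj B' ⟶ B) (hb : RepWith @Etale b) (z : Zs ⟶ B')
  (hB' : IsAffine B'.left) (hZ : IsAffine Zs.left)

include H hU hu hb hs in
theorem exists_toBase (φ : ∀ i, s.obj.obj i ⟶ (yon S).obj B')
    (hφn : ∀ ⦃i j : I⦄ (g : i ⟶ j), s.obj.map g ≫ φ j = φ i) (hφ : ∀ i, φ i ≫ b = s.ι i ≫ u ≫ γ) :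
    ∃! k : U ⟶ pullback γ b, k ≫ pullback.fst γ b = u ∧ ∀ i, s.ι i ≫ k ≫ pullback.snd γ b = φ i := by
  have hP := isAlgSpace_pullback H.algC (IsAlgSpace.yon_obj B') H.algB γ b
  have hx : IsEtaleMor (pullback.fst γ b) := isEtaleMor_of_isPullback (IsAlgSpace.yon_obj B') H.algB H.algC
    (IsPullback.of_hasPullback γ b).flip (isEtaleMor_of_repWith hb)
  obtain ⟨k, ⟨hk1, hk2⟩, hku⟩ := H.lift hU hP u (pullback.fst γ b) hu hx s hs
    (fun i => pullback.lift (s.ι i ≫ u) (φ i) (by rw [Category.assoc, hφ]))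
    (fun i j g => pullback.hom_ext (by rw [Category.assoc, pullback.lift_fst, pullback.lift_fst, ← Category.assoc, s.nat g])
      (by rw [Category.assoc, pullback.lift_snd, pullback.lift_snd, hφn g]))
    (fun i => pullback.lift_fst _ _ _)
  refine ⟨k, ⟨hk1, fun i => by rw [reassoc_of% (hk2 i), pullback.lift_snd]⟩, fun k' hk' => hku k' ⟨hk'.1, fun i => ?_⟩⟩
  apply pullback.hom_ext
  · rw [pullback.lift_fst, Category.assoc, hk'.1]
  · rw [pullback.lift_snd, Category.assoc, hk'.2 i]

include H hs in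
/-- The system over a scheme etale over the source. -/
theorem exists_sys_comp {V : Sp S} (hV : IsAlgSpace V) {P : Sp S} {k : U ⟶ P} {x : P ⟶ C}
    (hk : k ≫ x = u) (a : V ⟶ U) :
    ∃ (t : Sys D V) (r : ∀ i, t.obj.obj i ⟶ s.obj.obj i), Cart c ((a ≫ k) ≫ x) t ∧
      (∀ i, r i ≫ s.ι i = t.ι i ≫ a) ∧ (∀ i, r i ≫ s.α.app i = t.α.app i) ∧ ∀ ⦃i j : I⦄ (g : i ⟶ j), t.obj.map g ≫ r j = r i ≫ s.obj.map g := by
  let t := stdSys H hV ((a ≫ k) ≫ x)
  have ht : Cart c ((a ≫ k) ≫ x) t := cart_stdSys H hV _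
  have w : ∀ i, (t.ι i ≫ a) ≫ u = t.α.app i ≫ c i := fun i => by
    rw [Category.assoc, ← hk, ← Category.assoc a, (ht i).w]
  refine ⟨t, fun i => (hs i).lift _ _ (w i), ht, fun i => (hs i).lift_fst _ _ _,
    fun i => (hs i).lift_snd _ _ _, fun i j g => ?_⟩
  refine (hs j).hom_ext ?_ ?_
  · rw [Category.assoc, Category.assoc, (hs j).lift_fst, s.nat g, (hs i).lift_fst, reassoc_of% (t.nat g)]
  · rw [Category.assoc, Category.assoc, (hs j).lift_snd, s.α.naturality g, ← Category.assoc _ _ (D.map g),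
      (hs i).lift_snd]
    exact t.α.naturality g

include H hU hu hb hB' hZ hs in
theorem ext_affine {g g' : U ⟶ (yon S).obj Zs} (hg : g ≫ (yon S).map z ≫ b = u ≫ γ)
    (hg' : g' ≫ (yon S).map z ≫ b = u ≫ γ) (h : ∀ i, s.ι i ≫ g = s.ι i ≫ g') : g = g' := by
  have hP := isAlgSpace_pullback H.algC (IsAlgSpace.yon_obj B') H.algB γ b
  have hx : IsEtaleMor (pullback.fst γ b) := isEtaleMor_of_isPullback (IsAlgSpace.yon_obj B') H.algB H.algC
    (IsPullback.of_hasPullback γ b).flip (isEtaleMor_of_repWith hb)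
  obtain ⟨k₀, -, hk₀u⟩ := exists_toBase H hU u hu s hs b hb (fun i => s.ι i ≫ g ≫ (yon S).map z)
    (fun i j q => by rw [reassoc_of% (s.nat q)]) (fun i => by simp only [Category.assoc, hg])
  let k : U ⟶ pullback γ b := pullback.lift u (g ≫ (yon S).map z) (by rw [Category.assoc, hg])
  let k' : U ⟶ pullback γ b := pullback.lift u (g' ≫ (yon S).map z) (by rw [Category.assoc, hg'])
  have e : k = k' := (hk₀u k ⟨pullback.lift_fst _ _ _, fun i => by simp [k]⟩).trans
    (hk₀u k' ⟨pullback.lift_fst _ _ _, fun i => by simp [k', reassoc_of% (h i)]⟩).symm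
  have ez : g' ≫ (yon S).map z = g ≫ (yon S).map z := by
    have := congrArg (· ≫ pullback.snd γ b) e
    simpa [k, k'] using this.symm
  have hke : IsEtaleMor k := isEtaleMor_of_comp hP (by rw [pullback.lift_fst]; exact hu) hx
  refine ext_of_affine_etale hU fun A str e' he' => ?_
  obtain ⟨t, r, htc, hr, hrα, hrn⟩ := exists_sys_comp H u s hs (IsAlgSpace.yon_obj (Over.mk str)) (k := k)
    (x := pullback.fst γ b) (pullback.lift_fst _ _ _) e'
  obtain ⟨f, hf⟩ := (yon S).map_surjective (e' ≫ g)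
  obtain ⟨f', hf'⟩ := (yon S).map_surjective (e' ≫ g')
  obtain ⟨_, -, huniq⟩ := H.affine B' Zs (Over.mk str) b z _ hP (pullback.fst γ b) (pullback.snd γ b) (e' ≫ k)
    hB' hZ (inferInstanceAs (IsAffine (Spec A))) hb (IsPullback.of_hasPullback γ b) (hke e' he') t htc
    (fun i => t.ι i ≫ e' ≫ g) (fun i j q => by rw [reassoc_of% (t.nat q)]) (fun i => by simp [k])
  rw [← hf, ← hf']
  refine congrArg (yon S).map ((huniq f ⟨?_, fun i => ?_⟩).trans (huniq f' ⟨?_, fun i => ?_⟩).symm)
  · rw [hf, Category.assoc, Category.assoc, pullback.lift_snd]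
  · rw [hf]
  · rw [hf', Category.assoc, Category.assoc, pullback.lift_snd, ez]
  · rw [hf', ← reassoc_of% (hr i), ← h i, reassoc_of% (hr i)]

include H hU hu hb hB' hZ hs in
theorem exists_affine (φ : ∀ i, s.obj.obj i ⟶ (yon S).obj Zs)
    (hφn : ∀ ⦃i j : I⦄ (g : i ⟶ j), s.obj.map g ≫ φ j = φ i)
    (hφ : ∀ i, φ i ≫ (yon S).map z ≫ b = s.ι i ≫ u ≫ γ) :
    ∃ g : U ⟶ (yon S).obj Zs, g ≫ (yon S).map z ≫ b = u ≫ γ ∧ ∀ i, s.ι i ≫ g = φ i := by
  have hP := isAlgSpace_pullback H.algC (IsAlgSpace.yon_obj B') H.algB γ b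
  have hx : IsEtaleMor (pullback.fst γ b) := isEtaleMor_of_isPullback (IsAlgSpace.yon_obj B') H.algB H.algC
    (IsPullback.of_hasPullback γ b).flip (isEtaleMor_of_repWith hb)
  obtain ⟨k, ⟨hk1, hk2⟩, -⟩ := exists_toBase H hU u hu s hs b hb (fun i => φ i ≫ (yon S).map z)
    (fun i j q => by rw [← Category.assoc, hφn q]) (fun i => by rw [Category.assoc, hφ])
  have hke : IsEtaleMor k := isEtaleMor_of_comp hP (by rw [hk1]; exact hu) hx
  choose A str e x he hex using fun p : Points U => exists_affine_etale_nhd hU p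
  choose t r htc hr hrα hrn using fun p : Points U => exists_sys_comp H u s hs (IsAlgSpace.yon_obj (Over.mk (str p)))
    (k := k) (x := pullback.fst γ b) hk1 (e p)
  have haff := fun p : Points U => H.affine B' Zs (Over.mk (str p)) b z _ hP (pullback.fst γ b) (pullback.snd γ b)
    (e p ≫ k) hB' hZ (inferInstanceAs (IsAffine (Spec (A p)))) hb (IsPullback.of_hasPullback γ b)
    (hke (e p) (he p)) (t p) (htc p) (fun i => r p i ≫ φ i)
    (fun i j q => by rw [← Category.assoc, hrn p q, Category.assoc, hφn q])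
    (fun i => by rw [Category.assoc, ← hk2 i, reassoc_of% (hr p i)]; simp only [Category.assoc])
  choose f hf hfu using haff
  -- index the charts by a small type
  obtain ⟨W, a, ha, has⟩ := hU.atlas
  let pt := fun q : W.left => Points.ofPt a q
  have hsur : ∀ p : Points U, ∃ q : W.left, p ∈ Set.range (Points.ofPt (e (pt q))) := fun p => by
    obtain ⟨y, rfl⟩ := map_surjective_of_repWith has p
    obtain ⟨q, rfl⟩ := (Points.schemeEquiv W).surjective y
    exact ⟨q, x _, (hex _).trans (Points.ofPt_eq_map_ofScheme a q)⟩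
  obtain ⟨g, hg, -⟩ := MonoPtLib.exists_unique_desc_of_family (fun q => e (pt q)) (fun q => he _) hsur
    (fun q => (yon S).map (f (pt q))) fun q q' T g g' w => by
      let p := pt q; let p' := pt q'
      let R := pullback (e p) (e p')
      have hR : IsAlgSpace R := isAlgSpace_pullback (IsAlgSpace.yon_obj _) (IsAlgSpace.yon_obj _) hU _ _
      have hRe : IsEtaleMor (pullback.fst (e p) (e p') ≫ e p) := isEtaleMor_comp (isEtaleMor_of_repWith (he p))
        (isEtaleMor_of_isPullback (IsAlgSpace.yon_obj _) hU (IsAlgSpace.yon_obj _)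
          (IsPullback.of_hasPullback (e p) (e p')).flip (isEtaleMor_of_repWith (he p')))
      let uR := (pullback.fst (e p) (e p') ≫ e p) ≫ u
      let tR := stdSys H hR uR
      have htR : Cart c uR tR := cart_stdSys H hR _
      have key : pullback.fst (e p) (e p') ≫ (yon S).map (f p) =
          pullback.snd (e p) (e p') ≫ (yon S).map (f p') := by
        refine ext_affine H hR uR (isEtaleMor_comp hu hRe) tR htR b hb z hB' hZ ?_ ?_ fun i => ?_
        · simp only [Category.assoc, uR]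
          rw [reassoc_of% (hf p).1, ← pullback.condition, reassoc_of% hk1]
        · simp only [Category.assoc, uR]
          rw [reassoc_of% (hf p').1, ← pullback.condition, reassoc_of% hk1, pullback.condition_assoc]
        · have w₁ : (tR.ι i ≫ pullback.fst (e p) (e p')) ≫ (e p ≫ k) ≫ pullback.fst γ b = tR.α.app i ≫ c i := by
            rw [Category.assoc, Category.assoc, hk1, ← (htR i).w]; simp [uR]
          have w₂ : (tR.ι i ≫ pullback.snd (e p) (e p')) ≫ (e p' ≫ k) ≫ pullback.fst γ b = tR.α.app i ≫ c i := by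
            rw [Category.assoc, Category.assoc, hk1, ← pullback.condition_assoc, ← (htR i).w]; simp [uR]
          obtain ⟨l₁, e₁, e₁'⟩ : ∃ l, l ≫ (t p).ι i = tR.ι i ≫ pullback.fst (e p) (e p') ∧
              l ≫ (t p).α.app i = tR.α.app i := ⟨_, (htc p i).lift_fst _ _ w₁, (htc p i).lift_snd _ _ w₁⟩
          obtain ⟨l₂, e₂, e₂'⟩ : ∃ l, l ≫ (t p').ι i = tR.ι i ≫ pullback.snd (e p) (e p') ∧
              l ≫ (t p').α.app i = tR.α.app i := ⟨_, (htc p' i).lift_fst _ _ w₂, (htc p' i).lift_snd _ _ w₂⟩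
          rw [← Category.assoc, ← e₁, Category.assoc, (hf p).2 i, ← Category.assoc _ (pullback.snd _ _), ← e₂,
            Category.assoc, (hf p').2 i, ← Category.assoc, ← Category.assoc]
          refine congrArg (· ≫ φ i) ((hs i).hom_ext ?_ ?_)
          · rw [Category.assoc, Category.assoc, hr p i, hr p' i, reassoc_of% e₁, reassoc_of% e₂, pullback.condition]
          · rw [Category.assoc, Category.assoc, hrα p i, hrα p' i, e₁', e₂']
      have := congrArg (pullback.lift ((yon S).map g) ((yon S).map g') w ≫ ·) key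
      rw [← Category.assoc, ← Category.assoc] at this
      erw [pullback.lift_fst, pullback.lift_snd] at this
      exact this
  refine ⟨g, ext_of_etale_cover hU fun p => ?_, fun i => ext_of_etale_cover (s.alg i) fun p => ?_⟩
  · obtain ⟨q, v, hv⟩ := hsur p
    refine ⟨_, e (pt q), IsAlgSpace.yon_obj _, isEtaleMor_of_repWith (he _),
      ⟨Points.schemeEquiv _ v, by rw [← hv, Points.ofPt_eq_map_ofScheme]; rfl⟩, ?_⟩
    rw [reassoc_of% (hg q), reassoc_of% (hf _).1, ← pullback.condition, reassoc_of% hk1]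
  · obtain ⟨q, v, hv⟩ := hsur (Points.map (s.ι i) p)
    have sqQ := IsPullback.of_hasPullback (s.ι i) (e (pt q))
    obtain ⟨n, hn, -⟩ := exists_point_isPullback sqQ p (Points.schemeEquiv _ v)
      (by rw [← hv, Points.ofPt_eq_map_ofScheme]; rfl)
    refine ⟨_, pullback.fst (s.ι i) (e (pt q)), isAlgSpace_pullback (s.alg i) (IsAlgSpace.yon_obj _) hU _ _,
      isEtaleMor_of_isPullback (IsAlgSpace.yon_obj _) hU (s.alg i) sqQ.flip (isEtaleMor_of_repWith (he _)),
      ⟨n, hn⟩, ?_⟩
    have w₁ : pullback.snd (s.ι i) (e (pt q)) ≫ (e (pt q) ≫ k) ≫ pullback.fst γ b =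
        (pullback.fst (s.ι i) (e (pt q)) ≫ s.α.app i) ≫ c i := by
      rw [Category.assoc, hk1, ← pullback.condition_assoc, Category.assoc, (hs i).w]
    have e₁ := (htc (pt q) i).lift_fst _ _ w₁
    rw [pullback.condition_assoc, hg q, ← e₁, Category.assoc, (hf _).2 i, ← Category.assoc]
    refine congrArg (· ≫ φ i) ((hs i).hom_ext ?_ ?_)
    · rw [Category.assoc, hr, reassoc_of% e₁, pullback.condition]
    · rw [Category.assoc, hrα, (htc (pt q) i).lift_snd]

end Affine

section Main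

variable (H : Data γ c) {T : Sp S} (hT : IsAlgSpace T) (τ : T ⟶ B)

include H hT in
theorem eq_of_agree {m m' : C ⟶ T} (hm : m ≫ τ = γ) (hm' : m' ≫ τ = γ) (h : ∀ i, c i ≫ m = c i ≫ m') :
    m = m' := by
  refine ext_of_etale_cover H.algC fun p => ?_
  obtain ⟨A, str, b, v, hb, hv⟩ := exists_affine_etale_nhd H.algB (Points.map τ (Points.map m p))
  have sqT := IsPullback.of_hasPullback τ b
  have hTB := isAlgSpace_pullback hT (IsAlgSpace.yon_obj (Over.mk str)) H.algB τ b
  obtain ⟨w, hw, -⟩ := exists_point_isPullback sqT (Points.map m p) (Points.schemeEquiv _ v)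
    (by rw [← hv, Points.ofPt_eq_map_ofScheme]; rfl)
  obtain ⟨A', str', e, v', he, hv'⟩ := exists_affine_etale_nhd hTB w
  obtain ⟨z, hz⟩ := (yon S).map_surjective (e ≫ pullback.snd τ b)
  let ζ := e ≫ pullback.fst τ b
  have hζz : (yon S).map z ≫ b = ζ ≫ τ := by rw [hz, Category.assoc, ← pullback.condition, Category.assoc]
  have hζ : IsEtaleMor ζ := isEtaleMor_comp (isEtaleMor_of_isPullback (IsAlgSpace.yon_obj _) H.algB hT sqT.flip
    (isEtaleMor_of_repWith hb)) (isEtaleMor_of_repWith he)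
  have hY := IsAlgSpace.yon_obj (S := S) (Over.mk str')
  have hU := isAlgSpace_pullback H.algC hY hT m ζ
  have hU' := isAlgSpace_pullback H.algC hY hT m' ζ
  have hu : IsEtaleMor (pullback.fst m ζ) :=
    isEtaleMor_of_isPullback hY hT H.algC (IsPullback.of_hasPullback m ζ).flip hζ
  have hu' : IsEtaleMor (pullback.fst m' ζ) :=
    isEtaleMor_of_isPullback hY hT H.algC (IsPullback.of_hasPullback m' ζ).flip hζ
  let s := stdSys H hU (pullback.fst m ζ)
  have hs : Cart c (pullback.fst m ζ) s := cart_stdSys H hU _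
  have wk : ∀ i, (s.ι i ≫ pullback.fst m ζ) ≫ m' = (s.ι i ≫ pullback.snd m ζ) ≫ ζ := fun i => by
    conv_rhs => rw [Category.assoc, ← pullback.condition, reassoc_of% (hs i).w, h i]
    rw [(hs i).w, Category.assoc]
  obtain ⟨φ, ⟨hφ1, hφ2⟩, -⟩ := H.lift hU hU' (pullback.fst m ζ) (pullback.fst m' ζ) hu hu' s hs
    (fun i => pullback.lift _ _ (wk i))
    (fun i j g => pullback.hom_ext
      (by rw [Category.assoc, pullback.lift_fst, pullback.lift_fst, ← Category.assoc, s.nat g])
      (by rw [Category.assoc, pullback.lift_snd, pullback.lift_snd, ← Category.assoc, s.nat g]))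
    (fun i => pullback.lift_fst _ _ _)
  have e' : φ ≫ pullback.snd m' ζ = pullback.snd m ζ := by
    refine ext_affine H hU _ hu s hs b hb z (inferInstanceAs (IsAffine (Spec A))) (inferInstanceAs (IsAffine (Spec A')))
      ?_ ?_ fun i => ?_
    · rw [Category.assoc, hζz, ← pullback.condition_assoc, hm', reassoc_of% hφ1]
    · rw [hζz, ← pullback.condition_assoc, hm]
    · rw [reassoc_of% (hφ2 i), pullback.lift_snd]
  obtain ⟨n, hn, -⟩ := exists_point_isPullback (IsPullback.of_hasPullback m ζ) p (Points.schemeEquiv _ v') (by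
    rw [← hw, ← hv', Points.map_ofPt]
    rw [Points.ofPt_eq_map_ofScheme]
    rfl)
  refine ⟨_, pullback.fst m ζ, hU, hu, ⟨n, hn⟩, ?_⟩
  rw [pullback.condition]
  conv_rhs => rw [← hφ1, Category.assoc, pullback.condition, reassoc_of% e']

include H hT in
theorem exists_desc (σ : ∀ i, D.obj i ⟶ T) (hσn : ∀ ⦃i j : I⦄ (g : i ⟶ j), D.map g ≫ σ j = σ i)
    (hσ : ∀ i, σ i ≫ τ = c i ≫ γ) : ∃ m : C ⟶ T, m ≫ τ = γ ∧ ∀ i, c i ≫ m = σ i := by
  obtain ⟨W, a₀, ha₀, ha₀s⟩ := hT.atlas
  choose A str b v hb hv using fun w : W.left => exists_affine_etale_nhd H.algB (Points.map τ (Points.ofPt a₀ w))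
  have hTB := fun w : W.left => isAlgSpace_pullback hT (IsAlgSpace.yon_obj (Over.mk (str w))) H.algB τ (b w)
  choose p hp hp' using fun w : W.left => exists_point_isPullback (IsPullback.of_hasPullback τ (b w))
    (Points.ofPt a₀ w) (Points.schemeEquiv _ (v w)) (by rw [← hv, Points.ofPt_eq_map_ofScheme]; rfl)
  choose A' str' e v' he hv' using fun w : W.left => exists_affine_etale_nhd (hTB w) (p w)
  choose z hz using fun w : W.left => (yon S).map_surjective (e w ≫ pullback.snd τ (b w))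
  let ζ := fun w : W.left => e w ≫ pullback.fst τ (b w)
  have hζz : ∀ w, (yon S).map (z w) ≫ b w = ζ w ≫ τ := fun w => by
    rw [hz, Category.assoc, ← pullback.condition, Category.assoc]
  have hζ : ∀ w, IsEtaleMor (ζ w) := fun w => isEtaleMor_comp (isEtaleMor_of_isPullback (IsAlgSpace.yon_obj _)
    H.algB hT (IsPullback.of_hasPullback τ (b w)).flip (isEtaleMor_of_repWith (hb w))) (isEtaleMor_of_repWith (he w))
  have hY := fun w : W.left => IsAlgSpace.yon_obj (S := S) (Over.mk (str' w))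
  have hζs : ∀ x : Points T, ∃ w, x ∈ Set.range (Points.map (ζ w)) := fun x => by
    obtain ⟨y, rfl⟩ := map_surjective_of_repWith ha₀s x
    obtain ⟨w, rfl⟩ := (Points.schemeEquiv W).surjective y
    refine ⟨w, Points.schemeEquiv _ (v' w), ?_⟩
    rw [Points.map_comp, show Points.map (e w) (Points.schemeEquiv _ (v' w)) = p w by
      rw [← hv', Points.ofPt_eq_map_ofScheme]; rfl, hp, Points.ofPt_eq_map_ofScheme]
    rfl
  -- the systems attached to the charts
  let D' : W.left → I ⥤ Sp S := fun w =>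
    { obj := fun i => pullback (σ i) (ζ w)
      map := fun {i j} g => pullback.lift (pullback.fst _ _ ≫ D.map g) (pullback.snd _ _) (by
        rw [Category.assoc, hσn g, pullback.condition])
      map_id := fun i => by apply pullback.hom_ext <;> simp
      map_comp := fun g g' => by apply pullback.hom_ext <;> simp }
  let α : ∀ w, D' w ⟶ D := fun w =>
    { app := fun i => pullback.fst (σ i) (ζ w)
      naturality := fun i j g => pullback.lift_fst _ _ _ }
  have hD' : ∀ w i, IsAlgSpace ((D' w).obj i) := fun w i => isAlgSpace_pullback (H.algD i) (hY w) hT _ _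
  have hcart : ∀ w ⦃i j : I⦄ (g : i ⟶ j), IsPullback ((D' w).map g) ((α w).app i) ((α w).app j) (D.map g) :=
    fun w i j g => (IsPullback.of_right (h₁₂ := pullback.snd (σ j) (ζ w)) (h₂₂ := σ j)
      (by
        erw [pullback.lift_snd, hσn g]
        exact (IsPullback.of_hasPullback (σ i) (ζ w)).flip)
      (pullback.lift_fst _ _ _) (IsPullback.of_hasPullback (σ j) (ζ w)).flip)
  choose U a ι hU ha hιn hsq using fun w => H.effective (D' w) (α w) (hD' w) (hcart w)
    (fun i => isEtaleMor_of_isPullback (hY w) hT (H.algD i) (IsPullback.of_hasPullback (σ i) (ζ w)).flip (hζ w))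
  let s : ∀ w, Sys D (U w) := fun w => ⟨D' w, hD' w, α w, ι w, fun g => hιn w g⟩
  have hs : ∀ w, Cart c (a w) (s w) := hsq
  have hg := fun w => exists_affine H (hU w) (a w) (ha w) (s w) (hs w) (b w) (hb w) (z w)
    (inferInstanceAs (IsAffine (Spec (A w)))) (inferInstanceAs (IsAffine (Spec (A' w))))
    (fun i => pullback.snd (σ i) (ζ w)) (fun i j g => pullback.lift_snd _ _ _) (fun i => by
      rw [hζz, ← pullback.condition_assoc, hσ, ← (hs w i).w_assoc])
  choose g hg1 hg2 using hg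
  -- the charts cover
  let O : Set (Points C) := ⋃ w, Set.range (Points.map (a w))
  have hO : IsOpen O := isOpen_iUnion fun w => (isOpenMap_map_of_isEtaleMor (hU w) (ha w)).isOpen_range
  have hOr := repWith_openSubι C hO
  have hci : ∀ i (x : Points (D.obj i)), ∃ w, Points.map (c i) x ∈ Set.range (Points.map (a w)) := fun i x => by
    obtain ⟨w, y, hy⟩ := hζs (Points.map (σ i) x)
    obtain ⟨d, hd, -⟩ := exists_point_isPullback (IsPullback.of_hasPullback (σ i) (ζ w)) x y hy.symm
    exact ⟨w, Points.map (ι w i) d, by rw [← Points.map_comp, (hsq w i).w, Points.map_comp, hd]⟩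
  choose k hk using fun i => (exists_factor_iff hOr (c i)).2 (by
    rw [range_openSubι]
    rintro _ ⟨x, rfl⟩
    exact Set.mem_iUnion.2 (hci i x))
  haveI := mono_of_openImmersion hOr
  let s₀ : Sys D C := ⟨D, H.algD, 𝟙 D, c, fun g => H.nat g⟩
  have hs₀ : Cart c (𝟙 C) s₀ := fun i => IsPullback.of_vert_isIso ⟨by simp [s₀]⟩
  obtain ⟨r, ⟨hr, -⟩, -⟩ := H.lift H.algC (isAlgSpace_of_representable H.algC _ hOr.rep) (𝟙 C)
    (openSubι C O) (isEtaleMor_id C) (isEtaleMor_of_openImmersion hOr) s₀ hs₀ k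
    (fun i j q => by rw [← cancel_mono (openSubι C O), Category.assoc, hk, hk]; exact H.nat q)
    (fun i => by rw [hk]; exact (Category.comp_id _).symm)
  have hcov : ∀ x : Points C, ∃ w, x ∈ Set.range (Points.map (a w)) := fun x => Set.mem_iUnion.1 <|
    (Set.ext_iff.1 (range_openSubι C (W := O)) x).1 ⟨Points.map r x, by rw [← Points.map_comp, hr, Points.map_id]⟩
  -- compatibility on overlaps
  have compat : ∀ w w', pullback.fst (a w) (a w') ≫ g w ≫ ζ w = pullback.snd (a w) (a w') ≫ g w' ≫ ζ w' := by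
    intro w w'
    have sqR := IsPullback.of_hasPullback (a w) (a w')
    have hR := isAlgSpace_pullback (hU w) (hU w') H.algC (a w) (a w')
    let uR := pullback.fst (a w) (a w') ≫ a w
    have huR : IsEtaleMor uR := isEtaleMor_comp (ha w)
      (isEtaleMor_of_isPullback (hU w') H.algC (hU w) sqR.flip (ha w'))
    let sR := stdSys H hR uR
    have hsR : Cart c uR sR := cart_stdSys H hR _
    have hag : ∀ i, sR.ι i ≫ pullback.fst (a w) (a w') ≫ g w ≫ ζ w = sR.α.app i ≫ σ i ∧
        sR.ι i ≫ pullback.snd (a w) (a w') ≫ g w' ≫ ζ w' = sR.α.app i ≫ σ i := fun i => by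
      constructor
      · obtain ⟨l, l1, l2⟩ : ∃ l, l ≫ ι w i = sR.ι i ≫ pullback.fst (a w) (a w') ∧ l ≫ (α w).app i = sR.α.app i :=
          ⟨(hs w i).lift _ _ (by rw [Category.assoc]; exact (hsR i).w), (hs w i).lift_fst _ _ _, (hs w i).lift_snd _ _ _⟩
        rw [← reassoc_of% l1, reassoc_of% (hg2 w i), ← pullback.condition, ← l2, Category.assoc]
      · obtain ⟨l, l1, l2⟩ : ∃ l, l ≫ ι w' i = sR.ι i ≫ pullback.snd (a w) (a w') ∧ l ≫ (α w').app i = sR.α.app i :=
          ⟨(hs w' i).lift _ _ (by rw [Category.assoc, ← pullback.condition]; exact (hsR i).w),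
            (hs w' i).lift_fst _ _ _, (hs w' i).lift_snd _ _ _⟩
        rw [← reassoc_of% l1, reassoc_of% (hg2 w' i), ← pullback.condition, ← l2, Category.assoc]
    have hP := isAlgSpace_pullback (hY w) (hY w') hT (ζ w) (ζ w')
    have sqQ := IsPullback.of_hasPullback (pullback.fst (a w) (a w') ≫ g w) (pullback.fst (ζ w) (ζ w'))
    have hQ := isAlgSpace_pullback hR hP (hY w) (pullback.fst (a w) (a w') ≫ g w) (pullback.fst (ζ w) (ζ w'))
    have hQe : IsEtaleMor (pullback.fst (pullback.fst (a w) (a w') ≫ g w) (pullback.fst (ζ w) (ζ w'))) :=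
      isEtaleMor_of_isPullback hP (hY w) hR sqQ.flip (isEtaleMor_of_isPullback (hY w') hT (hY w)
        (IsPullback.of_hasPullback (ζ w) (ζ w')).flip (hζ w'))
    have wq : ∀ i, (sR.ι i ≫ pullback.fst (a w) (a w') ≫ g w) ≫ ζ w =
        (sR.ι i ≫ pullback.snd (a w) (a w') ≫ g w') ≫ ζ w' := fun i => by
      simp only [Category.assoc]; rw [(hag i).1, (hag i).2]
    let kk := fun i => pullback.lift (f := pullback.fst (a w) (a w') ≫ g w) (g := pullback.fst (ζ w) (ζ w'))
      (sR.ι i) (pullback.lift _ _ (wq i)) (by rw [pullback.lift_fst])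
    obtain ⟨m, ⟨hm1, hm2⟩, -⟩ := H.lift hR hQ uR
      (pullback.fst (pullback.fst (a w) (a w') ≫ g w) (pullback.fst (ζ w) (ζ w')) ≫ uR) huR
      (isEtaleMor_comp huR hQe) sR hsR kk
      (fun i j q => pullback.hom_ext (by simp only [kk, Category.assoc, pullback.lift_fst]; exact sR.nat q)
        (pullback.hom_ext
          (by simp only [kk, Category.assoc, pullback.lift_snd, pullback.lift_fst]; rw [reassoc_of% (sR.nat q)])
          (by simp only [kk, Category.assoc, pullback.lift_snd]; rw [reassoc_of% (sR.nat q)])))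
      (fun i => pullback.lift_fst_assoc _ _ _ _)
    have hm' : m ≫ pullback.fst _ _ = 𝟙 (pullback (a w) (a w')) := by
      obtain ⟨_, -, huniq⟩ := H.lift hR hR uR uR huR huR sR hsR sR.ι (fun i j q => sR.nat q) (fun i => rfl)
      refine (huniq _ ⟨by rw [Category.assoc, hm1], fun i => ?_⟩).trans
        (huniq _ ⟨Category.id_comp _, fun i => Category.comp_id _⟩).symm
      rw [reassoc_of% (hm2 i)]
      exact pullback.lift_fst _ _ _
    let g₁ := m ≫ pullback.snd _ _ ≫ pullback.snd (ζ w) (ζ w')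
    have hg₁ : g₁ ≫ ζ w' = pullback.fst (a w) (a w') ≫ g w ≫ ζ w := by
      simp only [g₁, Category.assoc]
      rw [← pullback.condition, ← pullback.condition_assoc, reassoc_of% hm']
      simp only [Category.assoc]
    have e₁ : g₁ = pullback.snd (a w) (a w') ≫ g w' := by
      refine ext_affine H hR uR huR sR hsR (b w') (hb w') (z w') (inferInstanceAs (IsAffine (Spec (A w'))))
        (inferInstanceAs (IsAffine (Spec (A' w')))) ?_ ?_ fun i => ?_
      · rw [hζz, reassoc_of% hg₁, ← hζz, hg1 w]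
        simp only [uR, Category.assoc]
      · simp only [uR, Category.assoc]
        rw [hg1 w', ← pullback.condition_assoc]
      · simp only [g₁]
        rw [reassoc_of% (hm2 i)]
        simp only [kk, pullback.lift_snd_assoc, pullback.lift_snd]
    rw [← hg₁, e₁, Category.assoc]
  obtain ⟨m, hm⟩ := exists_desc_of_etale_cover H.algC U a hU ha hcov (fun w => g w ≫ ζ w) compat
  refine ⟨m, ext_of_etale_cover H.algC fun x => ?_, fun i => ext_of_etale_cover (H.algD i) fun x => ?_⟩
  · obtain ⟨w, hw⟩ := hcov x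
    exact ⟨U w, a w, hU w, ha w, hw, by rw [reassoc_of% (hm w), ← hζz, hg1]⟩
  · obtain ⟨w, y, hy⟩ := hci i x
    obtain ⟨d, -, hd⟩ := exists_point_isPullback (hsq w i) y x hy
    refine ⟨(D' w).obj i, (α w).app i, hD' w i, isEtaleMor_of_isPullback (hU w) H.algC (H.algD i) (hsq w i) (ha w),
      ⟨d, hd⟩, ?_⟩
    rw [← (hsq w i).w_assoc, hm w, reassoc_of% (hg2 w i)]
    exact pullback.condition.symm

end Main

end EtColimLib
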