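import Groth.Agent.EtColimLib.Main

/-!
# Translation to diagrams of algebraic spaces over a base
-/

set_option autoImplicit false
set_option backward.isDefEq.respectTransparency false
set_option backward.isDefEq.respectTransparency.types false

universe u v w

open CategoryTheory CategoryTheory.Limits AlgebraicGeometry AlgSp AlgSpLib

namespace EtColimLib

variable {S : Scheme.{u}} {I : Type v} [Category.{w} I] {B : AlgSp.Space S}

/-- The underlying diagram of sheaves. -/
abbrev und (D : I ⥤ Over B) : I ⥤ Sp S :=
  D ⋙ Over.forget B ⋙ ObjectProperty.ι _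

/-- A diagram of sheaves over `D` seen in algebraic spaces over `B`. -/
noncomputable def toOver (D : I ⥤ Over B) (D' : I ⥤ Sp S) (hD' : ∀ i, IsAlgSpace (D'.obj i)) (α : D' ⟶ und D) :
    I ⥤ Over B where
  obj i := Over.mk (Y := (⟨D'.obj i, hD' i⟩ : AlgSp.Space S)) (ObjectProperty.homMk (α.app i ≫ (D.obj i).hom.hom))
  map {i j} g := Over.homMk (ObjectProperty.homMk (D'.map g)) (ObjectProperty.hom_ext _ (by
    change D'.map g ≫ α.app j ≫ (D.obj j).hom.hom = α.app i ≫ (D.obj i).hom.hom
    rw [← Category.assoc, α.naturality g, Category.assoc]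
    refine congrArg (α.app i ≫ ·) ?_
    exact congrArg (fun k => k.hom) (Over.w (D.map g))))
  map_id i := Over.OverMorphism.ext (ObjectProperty.hom_ext _ (D'.map_id i))
  map_comp g g' := Over.OverMorphism.ext (ObjectProperty.hom_ext _ (D'.map_comp g g'))

/-- The projection of `toOver`. -/
noncomputable def toOverHom (D : I ⥤ Over B) (D' : I ⥤ Sp S) (hD' : ∀ i, IsAlgSpace (D'.obj i))
    (α : D' ⟶ und D) : toOver D D' hD' α ⟶ D where
  app i := Over.homMk (ObjectProperty.homMk (α.app i)) rfl
  naturality i j g := Over.OverMorphism.ext (ObjectProperty.hom_ext _ (α.naturality g))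

theorem nonempty_isColimit (D : I ⥤ Over B) (c : Cocone D)
    (h₁ : ∀ (D' : I ⥤ Over B) (α : D' ⟶ D),
      (∀ ⦃i j : I⦄ (g : i ⟶ j), IsPullback (D'.map g).left.hom (α.app i).left.hom (α.app j).left.hom (D.map g).left.hom) →
      (∀ i, AlgSp.IsEtaleMor (α.app i).left.hom) →
        ∃ (c' : Cocone D') (a : c'.pt ⟶ c.pt), AlgSp.IsEtaleMor a.left.hom ∧
          ∀ i, IsPullback (c'.ι.app i).left.hom (α.app i).left.hom a.left.hom (c.ι.app i).left.hom)
    (h₁' : ∀ (U U' : Over B) (u : U ⟶ c.pt) (u' : U' ⟶ c.pt), AlgSp.IsEtaleMor u.left.hom → AlgSp.IsEtaleMor u'.left.hom →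
      ∀ (DU DU' : I ⥤ Over B) (αU : DU ⟶ D) (αU' : DU' ⟶ D) (ιU : DU ⟶ (Functor.const I).obj U)
        (ιU' : DU' ⟶ (Functor.const I).obj U'),
        (∀ i, IsPullback (ιU.app i).left.hom (αU.app i).left.hom u.left.hom (c.ι.app i).left.hom) →
        (∀ i, IsPullback (ιU'.app i).left.hom (αU'.app i).left.hom u'.left.hom (c.ι.app i).left.hom) →
        ∀ (β : DU ⟶ DU'), β ≫ αU' = αU →
          ∃! m : U ⟶ U', m ≫ u' = u ∧ ∀ i, ιU.app i ≫ m = β.app i ≫ ιU'.app i)
    (h₂ : ∀ (B' Zs Us : Over S) (b : (AlgSp.yon S).obj B' ⟶ B.obj) (z : Zs ⟶ B') {XB : AlgSp.Space S}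
      (x₁ : XB ⟶ c.pt.left) (x₂ : XB.obj ⟶ (AlgSp.yon S).obj B') (uu : (AlgSp.yon S).obj Us ⟶ XB.obj)
      (DU : I ⥤ AlgSp.Space S) (αU : DU ⟶ D ⋙ Over.forget B)
      (ιU : DU ⟶ (Functor.const I).obj ((AlgSp.ofScheme S).obj Us))
      (φ : DU ⟶ (Functor.const I).obj ((AlgSp.ofScheme S).obj Zs)),
      IsAffine B'.left → IsAffine Zs.left → IsAffine Us.left → AlgSp.RepWith @Etale b →
      IsPullback x₁.hom x₂ c.pt.hom.hom b → AlgSp.RepWith @Etale uu →
      (∀ i, IsPullback (ιU.app i).hom (αU.app i).hom (uu ≫ x₁.hom) (c.ι.app i).left.hom) →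
      (∀ i, (φ.app i).hom ≫ (AlgSp.yon S).map z = (ιU.app i).hom ≫ uu ≫ x₂) →
        ∃! fz : Us ⟶ Zs, (AlgSp.yon S).map fz ≫ (AlgSp.yon S).map z = uu ≫ x₂ ∧
          ∀ i, (ιU.app i).hom ≫ (AlgSp.yon S).map fz = (φ.app i).hom) :
    Nonempty (IsColimit c) := by
  let cc : ∀ i, (und D).obj i ⟶ c.pt.left.obj := fun i => (c.ι.app i).left.hom
  have ext' : ∀ {X Y : Over B} {f g : X ⟶ Y}, f.left.hom = g.left.hom → f = g := fun e =>
    Over.OverMorphism.ext (ObjectProperty.hom_ext _ e)
  have wov : ∀ {X Y : Over B} (f : X ⟶ Y), f.left.hom ≫ Y.hom.hom = X.hom.hom := fun f =>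
    congrArg (fun k => k.hom) (Over.w f)
  have hn : ∀ {i j : I} (g : i ⟶ j), (und D).map g ≫ cc j = cc i := fun g =>
    congrArg (fun k => k.left.hom) (c.w g)
  have H0 : ∀ {U : Sp S} (u : U ⟶ c.pt.left.obj) (s : Sys (und D) U), Cart cc u s → ∀ i,
      s.ι i ≫ u ≫ c.pt.hom.hom = s.α.app i ≫ (D.obj i).hom.hom := fun u s hs i => by
    rw [← Category.assoc, (hs i).w, Category.assoc]
    exact congrArg (s.α.app i ≫ ·) (wov (c.ι.app i))
  have H : Data c.pt.hom.hom cc :=
    { algB := B.property
      algC := c.pt.left.property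
      algD := fun i => (D.obj i).left.property
      nat := hn
      effective := fun D' α hD' hcart het => by
        obtain ⟨c', a, ha, hsq⟩ := h₁ (toOver D D' hD' α) (toOverHom D D' hD' α) hcart het
        exact ⟨c'.pt.left.obj, a.left.hom, fun i => (c'.ι.app i).left.hom, c'.pt.left.property, ha,
          fun i j g => congrArg (fun k => k.left.hom) (c'.w g), hsq⟩
      lift := by
        intro U U' hU hU' u u' hu hu' s hs k hkn hk
        let UO : Over B := Over.mk (Y := (⟨U, hU⟩ : AlgSp.Space S)) (ObjectProperty.homMk (u ≫ c.pt.hom.hom))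
        let UO' : Over B := Over.mk (Y := (⟨U', hU'⟩ : AlgSp.Space S)) (ObjectProperty.homMk (u' ≫ c.pt.hom.hom))
        let uO : UO ⟶ c.pt := Over.homMk (ObjectProperty.homMk u) rfl
        let uO' : UO' ⟶ c.pt := Over.homMk (ObjectProperty.homMk u') rfl
        have halg : ∀ i, IsAlgSpace (pullback u' (cc i)) := fun i =>
          isAlgSpace_pullback hU' (D.obj i).left.property c.pt.left.property u' (cc i)
        let s' : Sys (und D) U' :=
          { obj :=
              { obj := fun i => pullback u' (cc i)
                map := fun {i j} g => pullback.lift (pullback.fst _ _) (pullback.snd _ _ ≫ (und D).map g) (by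
                  rw [Category.assoc, hn g, pullback.condition])
                map_id := fun i => by
                  apply pullback.hom_ext <;> simp only [pullback.lift_fst, pullback.lift_snd, CategoryTheory.Functor.map_id, Category.id_comp, Category.comp_id]
                map_comp := fun g g' => by
                  apply pullback.hom_ext <;> simp only [pullback.lift_fst, pullback.lift_snd, pullback.lift_fst_assoc, pullback.lift_snd_assoc, CategoryTheory.Functor.map_comp, Category.assoc] }
            alg := halg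
            α :=
              { app := fun i => pullback.snd u' (cc i)
                naturality := fun i j g => pullback.lift_snd _ _ _ }
            ι := fun i => pullback.fst u' (cc i)
            nat := fun g => pullback.lift_fst _ _ _ }
        have hs' : Cart cc u' s' := fun i => IsPullback.of_hasPullback u' (cc i)
        let ιO : toOver D s.obj s.alg s.α ⟶ (Functor.const I).obj UO :=
          { app := fun i => Over.homMk (ObjectProperty.homMk (s.ι i)) (ObjectProperty.hom_ext _ (H0 u s hs i))
            naturality := fun i j g => ext' ((s.nat g).trans (Category.comp_id _).symm) }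
        let ιO' : toOver D s'.obj s'.alg s'.α ⟶ (Functor.const I).obj UO' :=
          { app := fun i => Over.homMk (ObjectProperty.homMk (s'.ι i)) (ObjectProperty.hom_ext _ (H0 u' s' hs' i))
            naturality := fun i j g => ext' ((s'.nat g).trans (Category.comp_id _).symm) }
        let β₀ : ∀ i, s.obj.obj i ⟶ s'.obj.obj i := fun i =>
          pullback.lift (k i) (s.α.app i) (by rw [hk, (hs i).w])
        have hβ : ∀ i, β₀ i ≫ s'.α.app i = s.α.app i := fun i => pullback.lift_snd _ _ _
        let β : toOver D s.obj s.alg s.α ⟶ toOver D s'.obj s'.alg s'.α :=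
          { app := fun i => Over.homMk (ObjectProperty.homMk (β₀ i)) (ObjectProperty.hom_ext _ (by
              change β₀ i ≫ s'.α.app i ≫ (D.obj i).hom.hom = _
              rw [← Category.assoc, hβ]
              rfl))
            naturality := fun i j g => ext' (by
              change s.obj.map g ≫ β₀ j = β₀ i ≫ s'.obj.map g
              apply pullback.hom_ext
              · rw [Category.assoc, Category.assoc, pullback.lift_fst, hkn g]
                erw [pullback.lift_fst, pullback.lift_fst]
              · rw [Category.assoc, Category.assoc, pullback.lift_snd, s.α.naturality g]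
                erw [pullback.lift_snd, pullback.lift_snd_assoc]) }
        obtain ⟨m, ⟨hm1, hm2⟩, hmu⟩ := h₁' UO UO' uO uO' hu hu' _ _ (toOverHom D s.obj s.alg s.α)
          (toOverHom D s'.obj s'.alg s'.α) ιO ιO' hs hs' β (NatTrans.ext (funext fun i => ext' (hβ i)))
        refine ⟨m.left.hom, ⟨congrArg (fun f => f.left.hom) hm1, fun i => ?_⟩, fun m' hm' => ?_⟩
        · exact (congrArg (fun f => f.left.hom) (hm2 i)).trans (pullback.lift_fst _ _ _)
        · have := hmu (Over.homMk (ObjectProperty.homMk m') (ObjectProperty.hom_ext _ (by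
            change m' ≫ u' ≫ c.pt.hom.hom = u ≫ c.pt.hom.hom
            rw [← Category.assoc, hm'.1]))) ⟨ext' hm'.1, fun i => ext' (by
              change s.ι i ≫ m' = β₀ i ≫ s'.ι i
              rw [hm'.2 i]
              exact (pullback.lift_fst _ _ _).symm)⟩
          exact congrArg (fun f => f.left.hom) this
      affine := by
        intro B' Zs Us b z XB hXB x₁ x₂ uu hB hZ hUs hb hsq huu s hs φ hφn hφ
        let DU : I ⥤ AlgSp.Space S :=
          { obj := fun i => ⟨s.obj.obj i, s.alg i⟩
            map := fun g => ObjectProperty.homMk (s.obj.map g)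
            map_id := fun i => ObjectProperty.hom_ext _ (s.obj.map_id i)
            map_comp := fun g g' => ObjectProperty.hom_ext _ (s.obj.map_comp g g') }
        exact h₂ B' Zs Us b z (XB := ⟨XB, hXB⟩) (ObjectProperty.homMk x₁) x₂ uu DU
          { app := fun i => ObjectProperty.homMk (s.α.app i)
            naturality := fun i j g => ObjectProperty.hom_ext _ (s.α.naturality g) }
          { app := fun i => ObjectProperty.homMk (s.ι i)
            naturality := fun i j g => ObjectProperty.hom_ext _ ((s.nat g).trans (Category.comp_id _).symm) }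
          { app := fun i => ObjectProperty.homMk (φ i)
            naturality := fun i j g => ObjectProperty.hom_ext _ ((hφn g).trans (Category.comp_id _).symm) }
          hB hZ hUs hb hsq huu hs hφ }
  have hdesc : ∀ t : Cocone D, ∃ m : c.pt.left.obj ⟶ t.pt.left.obj, m ≫ t.pt.hom.hom = c.pt.hom.hom ∧
      ∀ i, cc i ≫ m = (t.ι.app i).left.hom := fun t =>
    exists_desc H t.pt.left.property t.pt.hom.hom (fun i => (t.ι.app i).left.hom)
      (fun i j g => congrArg (fun k => k.left.hom) (t.w g))
      (fun i => (wov (t.ι.app i)).trans (wov (c.ι.app i)).symm)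
  choose m hm1 hm2 using hdesc
  exact ⟨{ desc := fun t => Over.homMk (ObjectProperty.homMk (m t)) (ObjectProperty.hom_ext _ (hm1 t))
           fac := fun t i => ext' (hm2 t i)
           uniq := fun t m' hm' => ext' (eq_of_agree H t.pt.left.property t.pt.hom.hom (wov m') (hm1 t)
             fun i => (congrArg (fun k => k.left.hom) (hm' i)).trans (hm2 t i).symm) }⟩

end EtColimLib
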